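import Mathlib

/-!
Homomorphisms into finite symmetric groups whose image has index at most two ("big"): how
normal subgroups of the source map.
-/

set_option autoImplicit false
set_option linter.unusedSectionVars false

namespace Cfsg.Agent.H32.Suborbit

open Equiv

/-- The image has index at most two in the symmetric group. -/
def Big {M S : Type*} [Group M] (f : M →* Perm S) : Prop := f.range.index ≤ 2

section Sym

variable {S : Type*} [Fintype S] [DecidableEq S]

theorem alt_le_of_index {A : Subgroup (Perm S)} (h : A.index ≤ 2) : alternatingGroup S ≤ A :=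
  Equiv.Perm.alternatingGroup_le_of_index_le_two h

theorem index_le_two_of_alt_le {A : Subgroup (Perm S)} (h : alternatingGroup S ≤ A) :
    A.index ≤ 2 := by
  rcases subsingleton_or_nontrivial S with hS | hS
  · have : Subsingleton (Perm S) := inferInstance
    rw [Subgroup.eq_top_of_le_card A (by rw [Nat.card_unique]; exact Nat.card_pos)]
    simp
  · have := Nat.le_of_dvd two_pos (alternatingGroup.index_eq_two (α := S) ▸ Subgroup.index_dvd_of_le h)
    exact this

theorem centralizer_alt_eq_bot (h5 : 5 ≤ Nat.card S) :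
    Subgroup.centralizer (alternatingGroup S : Set (Perm S)) = ⊥ := by
  by_contra h
  have hn : (Subgroup.centralizer (alternatingGroup S : Set (Perm S))).Normal := inferInstance
  have hle := Equiv.Perm.alternatingGroup_le_of_normal h5
    ((Subgroup.nontrivial_iff_ne_bot _).mpr h)
  have hS : Nontrivial S := Finite.one_lt_card_iff_nontrivial.mp (by omega)
  have hc : alternatingGroup S = ⊥ := by
    refine (Subgroup.eq_bot_iff_forall _).mpr fun x hx => ?_
    have : (⟨x, hx⟩ : alternatingGroup S) ∈ Subgroup.center (alternatingGroup S) :=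
      Subgroup.mem_center_iff.mpr fun y => Subtype.ext
        (Subgroup.mem_centralizer_iff.mp (hle hx) y y.2)
    rw [alternatingGroup.center_eq_bot (by omega), Subgroup.mem_bot] at this
    exact congrArg Subtype.val this
  have h2 := alternatingGroup.index_eq_two (α := S)
  rw [hc, Subgroup.index_bot, Nat.card_perm] at h2
  have := Nat.factorial_le h5
  rw [h2] at this
  exact absurd this (by decide)

/-- A subgroup normalised by a subgroup of index at most two is trivial or of index at most two. -/
theorem eq_bot_or_index_le (h5 : 5 ≤ Nat.card S) {N A : Subgroup (Perm S)} (hA : A.index ≤ 2)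
    (hn : A ≤ Subgroup.normalizer (N : Set (Perm S))) : N = ⊥ ∨ N.index ≤ 2 := by
  have hAlt := (alt_le_of_index hA).trans hn
  have hsimple := alternatingGroup.isSimpleGroup h5 (α := S)
  have : (N.subgroupOf (alternatingGroup S)).Normal :=
    Subgroup.normal_subgroupOf_of_le_normalizer hAlt
  rcases this.eq_bot_or_eq_top with h | h
  · left
    rw [eq_bot_iff, ← centralizer_alt_eq_bot h5]
    intro n hn'
    rw [Subgroup.mem_centralizer_iff]
    intro a ha
    have h1 : n * a * n⁻¹ * a⁻¹ ∈ N := by
      have := (Subgroup.mem_normalizer_iff.mp (hAlt ha) _).mp (inv_mem hn')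
      simpa [mul_assoc] using mul_mem hn' this
    have h2 : n * a * n⁻¹ * a⁻¹ ∈ alternatingGroup S :=
      mul_mem (Subgroup.Normal.conj_mem inferInstance a ha n) (inv_mem ha)
    have h3 : (⟨_, h2⟩ : alternatingGroup S) ∈ N.subgroupOf (alternatingGroup S) := h1
    rw [h, Subgroup.mem_bot] at h3
    have h4 := congrArg Subtype.val h3
    simp only [Subgroup.coe_one] at h4
    rw [mul_inv_eq_one, mul_inv_eq_iff_eq_mul] at h4
    exact h4.symm
  · exact .inr (index_le_two_of_alt_le (Subgroup.subgroupOf_eq_top.mp h))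

end Sym

section Hom

variable {M : Type*} [Group M] [Finite M] {S : Type*} [Finite S] {f : M →* Perm S}

theorem not_le_ker_of_big (h5 : 5 ≤ Nat.card S) (hf : Big f) : ¬ (⊤ : Subgroup M) ≤ f.ker := by
  intro h
  have h1 : f.range = ⊥ := by
    rw [eq_bot_iff]
    rintro _ ⟨x, rfl⟩
    exact Subgroup.mem_bot.mpr (h (Subgroup.mem_top x))
  rw [Big, h1, Subgroup.index_bot, Nat.card_perm] at hf
  have := Nat.factorial_le h5
  exact absurd (this.trans hf) (by decide)

/-- A normal subgroup lies in the kernel or has big image. -/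
theorem Big.cases (h5 : 5 ≤ Nat.card S) (hf : Big f) (X : Subgroup M) [X.Normal] :
    X ≤ f.ker ∨ Big (f.comp X.subtype) := by
  classical
  have := Fintype.ofFinite S
  have hr : (f.comp X.subtype).range = X.map f := by
    rw [MonoidHom.range_eq_map, ← Subgroup.map_map, ← MonoidHom.range_eq_map, Subgroup.range_subtype]
  have hn : f.range ≤ Subgroup.normalizer (X.map f : Set (Perm S)) := by
    refine le_trans ?_ (Subgroup.le_normalizer_map f)
    rw [Subgroup.normalizer_eq_top, ← MonoidHom.range_eq_map]
  rcases eq_bot_or_index_le h5 hf hn with h | h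
  · exact .inl ((Subgroup.map_eq_bot_iff _).mp h)
  · exact .inr (by rw [Big, hr]; exact h)

/-- If two normal subgroups meet in the kernel, one of them lies in it. -/
theorem Big.two (h5 : 5 ≤ Nat.card S) (hf : Big f) (X Y : Subgroup M) [X.Normal] [Y.Normal]
    (h : X ⊓ Y ≤ f.ker) : X ≤ f.ker ∨ Y ≤ f.ker := by
  classical
  have := Fintype.ofFinite S
  rcases hf.cases h5 X with hX | hX
  · exact .inl hX
  rcases hf.cases h5 Y with hY | hY
  · exact .inr hY
  exfalso
  have hc : alternatingGroup S ≤ Subgroup.centralizer (alternatingGroup S : Set (Perm S)) := by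
    intro a ha
    rw [Subgroup.mem_centralizer_iff]
    intro b hb
    obtain ⟨⟨x, hx⟩, rfl⟩ := alt_le_of_index hX ha
    obtain ⟨⟨y, hy⟩, rfl⟩ := alt_le_of_index hY hb
    have hk : x * y * x⁻¹ * y⁻¹ ∈ X ⊓ Y := by
      refine Subgroup.mem_inf.mpr ⟨?_, Y.mul_mem (Subgroup.Normal.conj_mem inferInstance y hy x) (Y.inv_mem hy)⟩
      simpa [mul_assoc] using X.mul_mem hx (Subgroup.Normal.conj_mem inferInstance _ (X.inv_mem hx) y)
    have h1 := MonoidHom.mem_ker.mp (h hk)
    simp only [map_mul, map_inv, mul_inv_eq_iff_eq_mul, one_mul] at h1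
    exact h1.symm
  rw [centralizer_alt_eq_bot h5, le_bot_iff] at hc
  have h2 : (alternatingGroup S).index ≤ 2 := index_le_two_of_alt_le le_rfl
  rw [hc, Subgroup.index_bot, Nat.card_perm] at h2
  exact absurd ((Nat.factorial_le h5).trans h2) (by decide)

/-- If finitely many normal subgroups meet in the kernel, one of them lies in it. -/
theorem Big.finset (h5 : 5 ≤ Nat.card S) (hf : Big f) {ι : Type*} (s : Finset ι)
    (N : ι → Subgroup M) (hN : ∀ i ∈ s, (N i).Normal)
    (h : ∀ m, (∀ i ∈ s, m ∈ N i) → m ∈ f.ker) : ∃ i ∈ s, N i ≤ f.ker := by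
  classical
  induction s using Finset.induction_on with
  | empty => exact absurd (fun m _ => h m (by simp)) (not_le_ker_of_big h5 hf)
  | insert i s hi ih =>
    have := hN i (Finset.mem_insert_self _ _)
    let J : Subgroup M := ⨅ j : {j // j ∈ s}, N j
    have : J.Normal := Subgroup.normal_iInf_normal fun j => hN _ (Finset.mem_insert_of_mem j.2)
    rcases hf.two h5 (N i) J (fun m hm => h m fun j hj => by
      rcases Finset.mem_insert.mp hj with rfl | hj
      · exact hm.1
      · exact Subgroup.mem_iInf.mp hm.2 ⟨j, hj⟩) with h1 | h1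
    · exact ⟨i, Finset.mem_insert_self _ _, h1⟩
    · obtain ⟨j, hj, hj'⟩ := ih (fun j hj => hN j (Finset.mem_insert_of_mem hj))
        (fun m hm => h1 (Subgroup.mem_iInf.mpr fun j => hm j j.2))
      exact ⟨j, Finset.mem_insert_of_mem hj, hj'⟩

theorem Big.index_ker (hf : Big f) :
    (Nat.card S).factorial ≤ 2 * f.ker.index := by
  rw [Subgroup.index_ker, ← Nat.card_perm, ← Subgroup.card_mul_index f.range, mul_comm 2]
  exact Nat.mul_le_mul_left _ hf

theorem index_ker_le {T : Type*} [Finite T] (g : M →* Perm T) :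
    g.ker.index ≤ (Nat.card T).factorial := by
  rw [Subgroup.index_ker, ← Nat.card_perm]
  exact Subgroup.card_le_card_group _

/-- Big homomorphisms with nested kernels have equal kernels. -/
theorem Big.ker_le {T : Type*} [Finite T] {g : M →* Perm T} (h5 : 5 ≤ Nat.card T) (hf : Big f)
    (hS : 5 ≤ Nat.card S) (hg : Big g) (h : f.ker ≤ g.ker) : g.ker ≤ f.ker := by
  rcases hf.cases hS g.ker with h1 | h1
  · exact h1
  exfalso
  have hr : (f.comp g.ker.subtype).range = g.ker.map f := by
    rw [MonoidHom.range_eq_map, ← Subgroup.map_map, ← MonoidHom.range_eq_map, Subgroup.range_subtype]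
  rw [Big, hr, Subgroup.index_map, sup_eq_left.mpr h] at h1
  have h2 : g.ker.index ≤ 2 := le_trans (Nat.le_mul_of_pos_right _
    (Nat.pos_of_ne_zero Subgroup.index_ne_zero_of_finite)) h1
  have h3 := hg.index_ker
  have := Nat.factorial_le h5
  exact absurd (le_trans this (h3.trans (Nat.mul_le_mul_left 2 h2))) (by decide)

/-- A big homomorphism to a symmetric group of larger degree does not vanish on a kernel. -/
theorem Big.not_ker_le {T : Type*} [Finite T] (g : M →* Perm T) (hf : Big f)
    (hlt : Nat.card T < Nat.card S) (h3 : 3 ≤ Nat.card S) : ¬ g.ker ≤ f.ker := by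
  intro h
  have h1 := hf.index_ker
  have h2 : f.ker.index ≤ g.ker.index := Nat.le_of_dvd
    (Nat.pos_of_ne_zero Subgroup.index_ne_zero_of_finite) (Subgroup.index_dvd_of_le h)
  obtain ⟨n, hn⟩ := Nat.exists_eq_succ_of_ne_zero (show Nat.card S ≠ 0 by omega)
  have h4 := (index_ker_le g).trans (Nat.factorial_le (show Nat.card T ≤ n by omega))
  rw [hn, Nat.factorial_succ] at h1
  have h5 : (n + 1) * n.factorial ≤ 2 * n.factorial := le_trans h1 (Nat.mul_le_mul_left 2 (h2.trans h4))
  have := Nat.le_of_mul_le_mul_right h5 (Nat.factorial_pos n)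
  omega

/-- A big homomorphism does not exist on a `p`-group. -/
theorem Big.not_isPGroup (h5 : 5 ≤ Nat.card S) (hf : Big f) {p : ℕ} (hp : p.Prime)
    (hM : IsPGroup p M) : False := by
  have := Fact.mk hp
  obtain ⟨k, hk⟩ := (hM.of_surjective f.rangeRestrict f.rangeRestrict_surjective).exists_card_eq
  have hcard : p ^ k * f.range.index = (Nat.card S).factorial := by
    rw [← hk, Subgroup.card_mul_index, Nat.card_perm]
  have key : ∀ q : ℕ, q.Prime → 2 < q → q ≤ 5 → q = p := by
    intro q hq h2 hq5
    have hd : q ∣ p ^ k * f.range.index := hcard ▸ Nat.dvd_factorial hq.pos (hq5.trans h5)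
    rcases hq.dvd_mul.mp hd with h | h
    · exact (Nat.prime_dvd_prime_iff_eq hq hp).mp (hq.dvd_of_dvd_pow h)
    · have := Nat.le_of_dvd (Nat.pos_of_ne_zero Subgroup.index_ne_zero_of_finite) h
      have : f.range.index ≤ 2 := hf
      omega
  have a := key 3 Nat.prime_three (by norm_num) (by norm_num)
  have b := key 5 Nat.prime_five (by norm_num) le_rfl
  omega

end Hom

end Cfsg.Agent.H32.Suborbit
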