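import Cfsg.Agent.H70.Wielandt
import Cfsg.Agent.H32.Suborbit.Big

/-!
A suborbit of a primitive group on which the stabiliser induces at least the alternating group:
the paired suborbit has the same property, and the two kernels meet trivially.
-/

set_option autoImplicit false
set_option linter.unusedSectionVars false

namespace Cfsg.Agent.H32.Suborbit

open MulAction Equiv
open Cfsg.Agent.H70 (isCoatom_stab card_stab_eq)
open Cfsg.Agent.H70.Wielandt

variable {G Ω : Type*} [Group G] [MulAction G Ω]

/-- The stabiliser of two points. -/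
abbrev Two (x y : Ω) : Subgroup G := stabilizer G x ⊓ stabilizer G y

/-- The other points of the suborbit of `y` relative to `x`. -/
abbrev pts (G : Type*) {Ω : Type*} [Group G] [MulAction G Ω] (x y : Ω) : Set Ω :=
  orbit (stabilizer G x) y \ {y}

/-- A two-point stabiliser on the rest of the suborbit. -/
def rho (x y : Ω) : (Two x y : Subgroup G) →* Perm (pts G x y) :=
  restrictHom _ _ fun k hk z => by
    have h1 : k • z ∈ orbit (stabilizer G x) y ↔ z ∈ orbit (stabilizer G x) y := by
      rw [← orbit_eq_iff, ← orbit_eq_iff]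
      exact Eq.congr_left (orbit_eq_iff.mpr ⟨⟨k, hk.1⟩, rfl⟩)
    have h2 : k • z = y ↔ z = y := by
      conv_lhs => rw [← show k • y = y from hk.2]
      exact smul_left_cancel_iff k
    exact and_congr h1 (not_congr h2)

theorem rho_apply (x y : Ω) (k : (Two x y : Subgroup G)) (z : pts G x y) :
    ((rho x y k z : pts G x y) : Ω) = (k : G) • (z : Ω) := rfl

theorem rho_ker (x y : Ω) :
    (rho (G := G) x y).ker = (K x y : Subgroup G).subgroupOf (Two x y) := by
  ext k
  rw [Subgroup.mem_subgroupOf, MonoidHom.mem_ker, mem_K, Equiv.Perm.ext_iff]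
  constructor
  · intro h
    refine ⟨k.2.1, fun z hz => ?_⟩
    by_cases hzy : z = y
    · subst hzy; exact k.2.2
    · exact congrArg Subtype.val (h ⟨z, hz, hzy⟩)
  · exact fun h z => Subtype.ext (h.2 z z.2.1)

theorem rho_comp_ker (x y : Ω) {A : Subgroup G} (hA : A ≤ Two x y) :
    ((rho x y).comp (Subgroup.inclusion hA)).ker = (K x y : Subgroup G).subgroupOf A := by
  rw [← MonoidHom.comap_ker, rho_ker]
  rfl

/-- Conjugation between two subgroups. -/
def conjHom (g : G) {A B : Subgroup G} (h : ∀ x ∈ A, g * x * g⁻¹ ∈ B) : A →* B where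
  toFun x := ⟨g * x * g⁻¹, h x x.2⟩
  map_one' := Subtype.ext (by simp)
  map_mul' x y := Subtype.ext (by simp [mul_assoc])

section Fin

variable [Finite G] [Finite Ω]

theorem normal_K_in (x y : Ω) {A : Subgroup G} (hA : A ≤ stabilizer G x) :
    ((K x y : Subgroup G).subgroupOf A).Normal :=
  Subgroup.normal_subgroupOf_of_le_normalizer (hA.trans (le_normalizer_K x y))

theorem normal_P_in (x y : Ω) {A : Subgroup G} (hA : A ≤ stabilizer G x) :
    ((P x y : Subgroup G).subgroupOf A).Normal :=
  Subgroup.normal_subgroupOf_of_le_normalizer (hA.trans (le_normalizer_P x y))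

/-- A subgroup fixing a suborbit pointwise, mapped bigly by a homomorphism killing `P`. -/
theorem exists_K_le {T : Type*} [Finite T] {x y : Ω} {A : Subgroup G} (hA : A ≤ K x y)
    {φ : A →* Perm T} (hT : 5 ≤ Nat.card T) (hφ : Big φ)
    (hP : (P x y : Subgroup G).subgroupOf A ≤ φ.ker) :
    ∃ c ∈ orbit (stabilizer G x) y, (K c x : Subgroup G).subgroupOf A ≤ φ.ker := by
  classical
  have := Fintype.ofFinite (orbit (stabilizer G x) y)
  have hc : ∀ c ∈ orbit (stabilizer G x) y, A ≤ stabilizer G c := fun c hc m hm =>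
    (mem_K.mp (hA hm)).2 c hc
  obtain ⟨c, -, h⟩ := hφ.finset hT (Finset.univ : Finset (orbit (stabilizer G x) y))
    (fun c => (K (c : Ω) x : Subgroup G).subgroupOf A)
    (fun c _ => normal_K_in _ _ (hc c c.2))
    (fun m hm => hP (mem_P.mpr ⟨hA m.2, fun c hc => hm ⟨c, hc⟩ (Finset.mem_univ _)⟩))
  exact ⟨c, c.2, h⟩

theorem not_isPGroup_of_big {T : Type*} [Finite T] (hT : 5 ≤ Nat.card T) {A B : Subgroup G}
    {φ : A →* Perm T} (hφ : Big φ) [(B.subgroupOf A).Normal] (h : ¬ B.subgroupOf A ≤ φ.ker)
    {p : ℕ} (hp : p.Prime) : ¬ IsPGroup p B := by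
  intro hB
  refine ((hφ.cases hT _).resolve_left h).not_isPGroup hT hp ?_
  refine hB.of_injective (ϕ := ((A.subtype.comp (B.subgroupOf A).subtype).codRestrict B
    fun m => m.2)) ?_
  exact fun m n hmn => Subtype.ext (Subtype.ext (congrArg Subtype.val hmn :))

end Fin

/-- A suborbit of length `d ≥ 6` with at least the alternating group induced. -/
structure Cfg (G : Type*) {Ω : Type*} [Group G] [MulAction G Ω] (a b : Ω) (d : ℕ) : Prop where
  hyp : Hyp G a b
  card : Nat.card (orbit (stabilizer G a) b) = d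
  six : 6 ≤ d
  big : d.factorial ≤ 2 * (K a b : Subgroup G).relIndex (stabilizer G a)

variable [Finite G] [Finite Ω] [FaithfulSMul G Ω] {a b : Ω} {d : ℕ}

theorem Cfg.of_mem (h : Cfg G a b d) {c : Ω} (hc : c ∈ orbit (stabilizer G a) b) :
    Cfg G a c d := by
  refine ⟨⟨h.hyp.prim, ?_, h.hyp.nt⟩, ?_, h.six, ?_⟩
  · intro e
    subst e
    obtain ⟨k, hk⟩ := hc
    have : (k : G) • b = (k : G) • a := hk.trans (mem_stabilizer_iff.mp k.2).symm
    exact h.hyp.ne (smul_left_cancel _ this).symm
  · rw [orbit_eq_iff.mpr hc]; exact h.card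
  · rw [K_congr hc]; exact h.big

theorem card_pts {x y : Ω} (h : Nat.card (orbit (stabilizer G x) y) = d) :
    Nat.card (pts G x y) = d - 1 := by
  rw [Nat.card_coe_set_eq, Set.ncard_sdiff_singleton_of_mem (mem_orbit_self y),
    ← Nat.card_coe_set_eq, h]

theorem card_pts_swap (h : Cfg G a b d) {c : Ω} (hc : c ∈ orbit (stabilizer G a) b) :
    Nat.card (pts G c a) = d - 1 := by
  have := h.hyp.prim.toIsPretransitive
  exact card_pts ((card_orbit_symm c a).trans (h.of_mem hc).card)

theorem Cfg.big_rho (h : Cfg G a b d) : Big (rho (G := G) a b) := by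
  have hr : (K a b : Subgroup G).relIndex (stabilizer G a) =
      (rho (G := G) a b).ker.index * d := by
    rw [rho_ker, ← Subgroup.relIndex_mul_relIndex _ _ _ (K_le a b)
      (inf_le_left : Two a b ≤ stabilizer G a)]
    congr 1
    rw [← h.card, Subgroup.inf_relIndex_left, Subgroup.relIndex, Nat.card_coe_set_eq,
      ← index_stabilizer]
    rfl
  have h1 := h.big
  rw [hr] at h1
  have h6 := h.six
  obtain ⟨n, rfl⟩ := Nat.exists_eq_succ_of_ne_zero (show d ≠ 0 by omega)
  rw [Nat.factorial_succ, mul_comm (n + 1), ← mul_assoc] at h1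
  have h2 : n.factorial ≤ 2 * (rho (G := G) a b).ker.index :=
    Nat.le_of_mul_le_mul_right h1 (Nat.succ_pos n)
  have h3 := Subgroup.card_mul_index (rho (G := G) a b).range
  rw [Nat.card_perm, card_pts h.card, Nat.succ_sub_one, ← Subgroup.index_ker] at h3
  rw [← h3, mul_comm 2] at h2
  exact Nat.le_of_mul_le_mul_left h2 (Nat.pos_of_ne_zero Subgroup.index_ne_zero_of_finite)

/-- The stabiliser of `a` on the suborbit. -/
def piHom (G : Type*) {Ω : Type*} [Group G] [MulAction G Ω] (a b : Ω) :
    stabilizer G a →* Perm (orbit (stabilizer G a) b) :=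
  MulAction.toPermHom (stabilizer G a) (orbit (stabilizer G a) b)

theorem piHom_ker (a b : Ω) :
    (piHom G a b).ker = (K a b : Subgroup G).subgroupOf (stabilizer G a) := by
  ext k
  rw [Subgroup.mem_subgroupOf, mem_K, MonoidHom.mem_ker, Equiv.Perm.ext_iff]
  exact ⟨fun hk => ⟨k.2, fun x hx => congrArg Subtype.val (hk ⟨x, hx⟩)⟩,
    fun hk x => Subtype.ext (hk.2 x x.2)⟩

theorem Cfg.big_pi (h : Cfg G a b d) : Big (piHom G a b) := by
  have h1 := h.big
  have h2 := Subgroup.card_mul_index (piHom G a b).range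
  rw [Nat.card_perm, h.card, ← Subgroup.index_ker, piHom_ker] at h2
  rw [← h2, mul_comm 2] at h1
  exact Nat.le_of_mul_le_mul_left h1
    (Nat.pos_of_ne_zero Subgroup.index_ne_zero_of_finite)

theorem relIndex_K_le (hd : Nat.card (orbit (stabilizer G a) b) = d) :
    (K a b : Subgroup G).relIndex (stabilizer G a) ≤ d.factorial :=
  Nat.le_of_dvd (Nat.factorial_pos d) (relIndex_K_dvd hd)

/-- The paired suborbit. -/
theorem Cfg.symm (h : Cfg G a b d) : Cfg G b a d := by
  have hT := h.hyp.prim.toIsPretransitive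
  have hd : Nat.card (orbit (stabilizer G b) a) = d := (card_orbit_symm b a).trans h.card
  refine ⟨h.hyp.symm, hd, h.six, ?_⟩
  obtain ⟨g, hg⟩ := exists_smul_eq G b a
  set K' : Subgroup G := K b a with hK'
  have hto : ∀ x ∈ K', g * x * g⁻¹ ∈ (K a (g • a) : Subgroup G) := fun x hx => by
    have := conj_mem_K hx g
    rwa [hg] at this
  let c := conjHom g (fun x hx => K_le_fst a (g • a) (hto x hx) : ∀ x ∈ K', g * x * g⁻¹ ∈ stabilizer G a)
  have hsurj : ∀ y ∈ (K a (g • a) : Subgroup G), g⁻¹ * y * g ∈ K' := fun y hy => by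
    have := conj_mem_K hy g⁻¹
    rw [inv_inv, inv_smul_smul, show g⁻¹ • a = b by rw [← hg, inv_smul_smul]] at this
    exact this
  have hrel : (K' : Subgroup G).relIndex (stabilizer G b) =
      (K a (g • a) : Subgroup G).relIndex (stabilizer G a) := by
    have e1 := Subgroup.relIndex_mul_relIndex ⊥ _ _ bot_le (K_le_fst b a : K' ≤ _)
    have e2 := Subgroup.relIndex_mul_relIndex ⊥ _ _ bot_le
      (K_le_fst a (g • a) : (K a (g • a) : Subgroup G) ≤ _)
    rw [Subgroup.relIndex_bot_left, Subgroup.relIndex_bot_left] at e1 e2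
    have hcard : Nat.card K' = Nat.card (K a (g • a) : Subgroup G) := Nat.card_congr
      { toFun := fun x => ⟨g * x * g⁻¹, hto x x.2⟩
        invFun := fun y => ⟨g⁻¹ * y * g, hsurj y y.2⟩
        left_inv := fun x => Subtype.ext (by simp [mul_assoc])
        right_inv := fun y => Subtype.ext (by simp [mul_assoc]) }
    rw [hcard, card_stab_eq b a, ← e2] at e1
    exact Nat.eq_of_mul_eq_mul_left Nat.card_pos e1
  rw [hrel]
  set φ : K' →* Perm (orbit (stabilizer G a) b) := (piHom G a b).comp c with hφdef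
  have := normal_K_in a (g • a) (le_refl (stabilizer G a))
  have h5 : 5 ≤ Nat.card (orbit (stabilizer G a) b) := by rw [h.card]; have := h.six; omega
  rcases h.big_pi.cases h5 ((K a (g • a) : Subgroup G).subgroupOf (stabilizer G a)) with hle | hbig
  · rw [piHom_ker] at hle
    exact h.big.trans (Nat.mul_le_mul_left 2 (Nat.le_of_dvd
      (Nat.pos_of_ne_zero Subgroup.index_ne_zero_of_finite) (Subgroup.index_dvd_of_le hle)))
  exfalso
  have hφ : Big φ := by
    have hr : φ.range = ((piHom G a b).comp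
        ((K a (g • a) : Subgroup G).subgroupOf (stabilizer G a)).subtype).range := by
      refine le_antisymm ?_ ?_
      · rintro _ ⟨x, rfl⟩
        exact ⟨⟨c x, hto x x.2⟩, rfl⟩
      · rintro _ ⟨⟨y, hy⟩, rfl⟩
        refine ⟨⟨g⁻¹ * y * g, hsurj y hy⟩, congrArg (piHom G a b) (Subtype.ext ?_)⟩
        show g * (g⁻¹ * y * g) * g⁻¹ = y
        simp [mul_assoc]
    rw [Big, hr]
    exact hbig
  have hd6 := h.six
  -- the part of `K'` fixing the suborbit
  have hK'T : K' ≤ Two a b := le_inf (K_le_snd b a) (K_le_fst b a)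
  have hM := normal_K_in a b (hK'T.trans inf_le_left)
  have h1 : ¬ (K a b : Subgroup G).subgroupOf K' ≤ φ.ker := by
    rw [← rho_comp_ker a b hK'T]
    exact hφ.not_ker_le _ (by rw [card_pts h.card, h.card]; omega) (by omega)
  have hbigM := (hφ.cases h5 _).resolve_left h1
  set M : Subgroup G := K a b ⊓ K' with hMdef
  set ψ : M →* Perm (orbit (stabilizer G a) b) :=
    φ.comp (Subgroup.inclusion (inf_le_right : M ≤ K')) with hψdef
  have hψ : Big ψ := by
    have hr : ψ.range = (φ.comp ((K a b : Subgroup G).subgroupOf K').subtype).range := by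
      refine le_antisymm ?_ ?_
      · rintro _ ⟨x, rfl⟩
        exact ⟨⟨⟨x, x.2.2⟩, x.2.1⟩, rfl⟩
      · rintro _ ⟨x, rfl⟩
        exact ⟨⟨((x : K') : G), x.2, (x : K').2⟩, rfl⟩
    rw [Big, hr]
    exact hbigM
  have hP : ¬ (P a b : Subgroup G).subgroupOf M ≤ ψ.ker := by
    intro hle
    obtain ⟨e, he, hker⟩ := exists_K_le (inf_le_left : M ≤ K a b) h5 hψ hle
    have hMT : M ≤ Two e a := fun m hm =>
      ⟨(mem_K.mp hm.1).2 e he, (mem_K.mp hm.1).1⟩
    rw [← rho_comp_ker e a hMT] at hker
    exact hψ.not_ker_le _ (by rw [card_pts_swap h he, h.card]; omega) (by omega) hker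
  have hP' : (P b a : Subgroup G) = ⊥ := by
    refine h.hyp.P_eq_bot fun p hp => ?_
    have := normal_P_in a b ((inf_le_left : M ≤ K a b).trans (K_le_fst a b))
    exact not_isPGroup_of_big h5 hψ hP hp
  obtain ⟨e, he, hker⟩ := exists_K_le (le_refl K') h5 hφ
    (by rw [← hK'] at *; rw [hP', Subgroup.bot_subgroupOf]; exact bot_le)
  have hT' : K' ≤ Two e b := fun m hm =>
    ⟨(mem_K.mp hm).2 e he, (mem_K.mp hm).1⟩
  rw [← rho_comp_ker e b hT'] at hker
  refine hφ.not_ker_le _ ?_ (by omega) hker
  have := card_orbit_symm (G := G) b e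
  rw [show orbit (stabilizer G b) e = orbit (stabilizer G b) a from orbit_eq_iff.mpr he, hd] at this
  rw [card_pts this.symm, h.card]
  omega

theorem Cfg.five_pts (h : Cfg G a b d) : 5 ≤ Nat.card (pts G a b) := by
  rw [card_pts h.card]; have := h.six; omega

/-- Unfaithfulness: the kernel is non-trivial. -/
theorem Cfg.not_K_le (h : Cfg G a b d) (hK : (K a b : Subgroup G) ≠ ⊥) :
    ¬ (K a b : Subgroup G) ≤ K b a ∧ (K b a : Subgroup G) ≠ ⊥ := by
  have hT := h.hyp.prim.toIsPretransitive
  have hs := h.symm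
  have hn := normal_K_in b a (inf_le_right : Two a b ≤ stabilizer G b)
  have e1 := Subgroup.relIndex_mul_relIndex ⊥ _ _ bot_le
    (K_le_fst a b : (K a b : Subgroup G) ≤ _)
  have e2 := Subgroup.relIndex_mul_relIndex ⊥ _ _ bot_le
    (K_le_fst b a : (K b a : Subgroup G) ≤ _)
  rw [Subgroup.relIndex_bot_left, Subgroup.relIndex_bot_left] at e1 e2
  rw [card_stab_eq b a, ← e1] at e2
  have hb := h.big
  have hu := relIndex_K_le hs.card
  have h5 := h.five_pts
  have h6 := h.six
  have hfac : 120 ≤ (d - 1).factorial := Nat.factorial_le (show 5 ≤ d - 1 by omega)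
  have key : ¬ (K a b : Subgroup G) ≤ K b a := by
    intro hle
    rcases h.big_rho.cases h5 ((K b a : Subgroup G).subgroupOf (Two a b)) with h1 | h1
    · rw [rho_ker] at h1
      have h2 : (K b a : Subgroup G) ≤ K a b := fun x hx =>
        h1 (x := ⟨x, (mem_K.mp hx).2 a (mem_orbit_self a), (mem_K.mp hx).1⟩) hx
      have heq := le_antisymm hle h2
      exact hK (h.hyp.eq_bot_of_both (K_le_fst a b) (le_normalizer_K a b)
        (heq ▸ le_normalizer_K b a))
    · have h2 := h1.index_ker
      rw [← MonoidHom.comap_ker, rho_ker, card_pts h.card] at h2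
      have h3 : (((K a b : Subgroup G).subgroupOf (Two a b)).comap
          ((K b a : Subgroup G).subgroupOf (Two a b)).subtype).index =
          (K a b : Subgroup G).relIndex (K b a) := by
        show ((K a b : Subgroup G).subgroupOf (Two a b)).relIndex
          ((K b a : Subgroup G).subgroupOf (Two a b)) = _
        exact Subgroup.relIndex_subgroupOf ((K_le b a).trans (le_of_eq (inf_comm _ _)))
      rw [h3] at h2
      have e3 := Subgroup.relIndex_mul_relIndex ⊥ _ _ bot_le hle
      rw [Subgroup.relIndex_bot_left, Subgroup.relIndex_bot_left] at e3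
      rw [← e3, mul_assoc] at e2
      have h4 := Nat.eq_of_mul_eq_mul_left Nat.card_pos e2
      have h7 : (K a b : Subgroup G).relIndex (K b a) *
          (K b a : Subgroup G).relIndex (stabilizer G b) ≤ d.factorial :=
        h4.trans_le (relIndex_K_le h.card)
      have h8 : d.factorial * (d - 1).factorial ≤ 4 * ((K a b : Subgroup G).relIndex (K b a) *
          (K b a : Subgroup G).relIndex (stabilizer G b)) := by
        calc _ ≤ (2 * (K b a : Subgroup G).relIndex (stabilizer G b)) *
              (2 * (K a b : Subgroup G).relIndex (K b a)) := Nat.mul_le_mul hs.big h2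
          _ = _ := by ring
      have := Nat.factorial_pos d
      nlinarith
  refine ⟨key, fun e => ?_⟩
  rw [e, Subgroup.relIndex_bot_left] at e2 hu
  have hnK := normal_K_in a b (inf_le_right : Two b a ≤ stabilizer G a)
  rcases hs.big_rho.cases hs.five_pts ((K a b : Subgroup G).subgroupOf (Two b a)) with h1 | h1
  · rw [rho_ker] at h1
    exact key fun x hx =>
      h1 (x := ⟨x, (mem_K.mp hx).2 b (mem_orbit_self b), (mem_K.mp hx).1⟩) hx
  · have h2 := h1.index_ker
    rw [← MonoidHom.comap_ker, rho_ker, e, card_pts hs.card] at h2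
    have h3 := Nat.card_congr (Subgroup.subgroupOfEquivOfLe ((K_le (G := G) a b).trans (le_of_eq (inf_comm _ _)))).toEquiv
    rw [Subgroup.bot_subgroupOf, MonoidHom.comap_bot, (MonoidHom.ker_eq_bot_iff _).mpr
      (Subgroup.subtype_injective _), Subgroup.index_bot, h3] at h2
    rw [Subgroup.card_bot, one_mul] at e2
    have h8 : (d - 1).factorial * d.factorial ≤ 4 * (Nat.card (K a b : Subgroup G) *
        (K a b : Subgroup G).relIndex (stabilizer G a)) := by
      calc _ ≤ (2 * Nat.card (K a b : Subgroup G)) *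
            (2 * (K a b : Subgroup G).relIndex (stabilizer G a)) := Nat.mul_le_mul h2 hb
        _ = _ := by ring
    have := Nat.factorial_pos d
    nlinarith

/-- Each member of the suborbit gives a big representation of the kernel. -/
theorem Cfg.big_on (h : Cfg G a b d) (hK : (K a b : Subgroup G) ≠ ⊥) {c : Ω}
    (hc : c ∈ orbit (stabilizer G a) b) :
    Big ((rho (G := G) c a).comp (Subgroup.inclusion
      (show (K a b : Subgroup G) ≤ Two c a from
        fun _ hm => ⟨(mem_K.mp hm).2 c hc, (mem_K.mp hm).1⟩))) := by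
  have hc' := h.of_mem hc
  have hn := normal_K_in a b (inf_le_right : Two c a ≤ stabilizer G a)
  have hle : (K a b : Subgroup G) ≤ Two c a :=
    fun _ hm => ⟨(mem_K.mp hm).2 c hc, (mem_K.mp hm).1⟩
  rcases hc'.symm.big_rho.cases hc'.symm.five_pts
    ((K a b : Subgroup G).subgroupOf (Two c a)) with h1 | h1
  · rw [rho_ker] at h1
    refine absurd ?_ (hc'.not_K_le (by rwa [K_congr hc])).1
    rw [K_congr hc]
    exact fun x hx => h1 (x := ⟨x, hle hx⟩) hx
  · have hr : ((rho (G := G) c a).comp (Subgroup.inclusion hle)).range =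
        ((rho (G := G) c a).comp ((K a b : Subgroup G).subgroupOf (Two c a)).subtype).range := by
      refine le_antisymm ?_ ?_
      · rintro _ ⟨x, rfl⟩
        exact ⟨⟨⟨x, hle x.2⟩, x.2⟩, rfl⟩
      · rintro _ ⟨x, rfl⟩
        exact ⟨⟨((x : (Two c a : Subgroup G)) : G), x.2⟩, rfl⟩
    rw [Big, hr]
    exact h1

end Cfsg.Agent.H32.Suborbit
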