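import Cfsg.Agent.H32.Suborbit.Trivial

/-!
The stabiliser of a suborbit inducing at least the alternating group unfaithfully is a subgroup
of `S_d × S_{d-1}`.
-/

set_option autoImplicit false
set_option linter.unusedSectionVars false

namespace Cfsg.Agent.H32.Suborbit

open MulAction Equiv
open Cfsg.Agent.H70 (card_stab_eq)
open Cfsg.Agent.H70.Wielandt

variable {G Ω : Type*} [Group G] [MulAction G Ω] [Finite G] [Finite Ω] [FaithfulSMul G Ω]
  {a b : Ω} {d : ℕ}

/-- The stabiliser acts on the rest of the paired suborbit. -/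
theorem exists_theta (h : Cfg G a b d) (hK : (K a b : Subgroup G) ≠ ⊥) :
    ∃ θ : stabilizer G a →* Perm (pts G b a),
      Function.Injective ((piHom G a b).prod θ) ∧
      (∀ (k : stabilizer G a) (hk : (k : G) ∈ (Two b a : Subgroup G)), θ k = rho (G := G) b a ⟨k, hk⟩) ∧
      Big (θ.comp ((K a b : Subgroup G).subgroupOf (stabilizer G a)).subtype) ∧
      Big ((piHom G a b).comp θ.ker.subtype) := by
  classical
  have := Fintype.ofFinite (pts G b a)
  set H := stabilizer G a
  set f := (rho (G := G) b a).comp (Subgroup.inclusion (K_le_Two (mem_orbit_self b) :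
    (K a b : Subgroup G) ≤ Two b a))
  have hf : Big f := h.big_on hK (mem_orbit_self b)
  have h5 := h.five_pts' (mem_orbit_self b)
  have hMb := h.inf_eq_bot hK
  have hconj : ∀ (x : H) (k : (K a b : Subgroup G)), (x : G) * k * (x : G)⁻¹ ∈ (K a b : Subgroup G) :=
    fun x k => (Subgroup.mem_normalizer_iff.mp (le_normalizer_K a b x.2) k).mp k.2
  let cj : H → ↥(K a b : Subgroup G) → ↥(K a b : Subgroup G) :=
    fun x k => ⟨_, hconj x k⟩
  have cjmul : ∀ (x y : H) k, cj (x * y) k = cj x (cj y k) := fun x y k =>
    Subtype.ext (by simp [cj, mul_assoc])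
  have hu : ∀ σ τ : Perm (pts G b a), (∀ k, σ * f k * σ⁻¹ = τ * f k * τ⁻¹) → σ = τ := by
    intro σ τ hst
    have hmem : τ⁻¹ * σ ∈ Subgroup.centralizer (alternatingGroup (pts G b a) : Set _) := by
      rw [Subgroup.mem_centralizer_iff]
      intro ρ hρ
      obtain ⟨k, rfl⟩ := alt_le_of_index hf hρ
      calc f k * (τ⁻¹ * σ) = τ⁻¹ * (τ * f k * τ⁻¹) * σ := by group
        _ = τ⁻¹ * (σ * f k * σ⁻¹) * σ := by rw [hst k]
        _ = τ⁻¹ * σ * f k := by group
    rw [centralizer_alt_eq_bot h5, Subgroup.mem_bot, inv_mul_eq_one] at hmem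
    exact hmem.symm
  -- the centraliser of the kernel
  set C : Subgroup H := Subgroup.centralizer (((K a b : Subgroup G).subgroupOf H : Subgroup H) : Set H)
  have hKn := normal_K_in a b (le_refl H)
  have hCn : C.Normal := inferInstanceAs (Subgroup.centralizer _).Normal
  have hCe : ∀ c ∈ C, ∀ k, cj c k = k := by
    intro c hc k
    have h1 := Subgroup.mem_centralizer_iff.mp hc ⟨k, K_le_fst a b k.2⟩ k.2
    have h2 := congrArg Subtype.val h1
    simp only [Subgroup.coe_mul] at h2
    exact Subtype.ext (by simp [cj, ← h2, mul_assoc])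
  have hK'C : (K b a : Subgroup G).subgroupOf H ≤ C := by
    intro x hx
    rw [Subgroup.mem_centralizer_iff]
    intro k hk
    refine Subtype.ext ?_
    have hkG : (k : G) ∈ (K a b : Subgroup G) := hk
    have hxG : (x : G) ∈ (K b a : Subgroup G) := hx
    have hz : (k : G) * x * (k : G)⁻¹ * (x : G)⁻¹ ∈ (K a b ⊓ K b a : Subgroup G) := by
      refine Subgroup.mem_inf.mpr ⟨?_, ?_⟩
      · have := (Subgroup.mem_normalizer_iff.mp (le_normalizer_K a b x.2) (k : G)⁻¹).mp (inv_mem hkG)
        simpa [mul_assoc] using mul_mem hkG this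
      · exact mul_mem ((Subgroup.mem_normalizer_iff.mp
          (le_normalizer_K b a (K_le_snd a b hkG)) _).mp hxG) (inv_mem hxG)
    rw [hMb, Subgroup.mem_bot, mul_inv_eq_one, mul_inv_eq_iff_eq_mul] at hz
    exact hz
  have hd5 : 5 ≤ Nat.card (orbit H b) := by rw [h.card]; have := h.six; omega
  have hCbig : Big ((piHom G a b).comp C.subtype) := by
    refine (h.big_pi.cases hd5 C).resolve_left fun hle => ?_
    rw [piHom_ker] at hle
    refine (h.symm.not_K_le (h.not_K_le hK).2).1 fun x hx => ?_
    exact hle (hK'C (x := ⟨x, K_le_snd b a hx⟩) hx)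
  -- existence of the permutation
  have hex : ∀ x : H, ∃ σ : Perm (pts G b a), ∀ k, σ * f k * σ⁻¹ = f (cj x k) := by
    intro x
    have := Fintype.ofFinite (orbit H b)
    have hT := alternatingGroup.isMultiplyPretransitive (α := orbit H b)
    have : IsMultiplyPretransitive (alternatingGroup (orbit H b)) (orbit H b) 1 :=
      MulAction.isMultiplyPretransitive_of_le (n := Nat.card (orbit H b) - 2)
        (by omega) (Nat.sub_le _ _)
    have := is_one_pretransitive_iff.mp this
    obtain ⟨⟨g, hg⟩, hgb⟩ := exists_smul_eq (alternatingGroup (orbit H b))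
      (⟨b, mem_orbit_self b⟩ : orbit H b) ⟨x • b, mem_orbit b x⟩
    obtain ⟨c, rfl⟩ := alt_le_of_index hCbig hg
    have hcb : ((c : H) : G) • b = (x : G) • b := congrArg Subtype.val hgb
    set l : H := (c : H)⁻¹ * x
    have hl : (l : G) ∈ (Two b a : Subgroup G) := by
      refine ⟨?_, l.2⟩
      show ((c : H) : G)⁻¹ * (x : G) ∈ stabilizer G b
      rw [mem_stabilizer_iff, mul_smul, ← hcb, inv_smul_smul]
    refine ⟨rho (G := G) b a ⟨l, hl⟩, fun k => ?_⟩
    have e : cj x k = cj l k := by
      rw [← mul_inv_cancel_left (c : H) x, cjmul, hCe _ c.2]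
    rw [e]
    simp only [f, MonoidHom.comp_apply, ← map_inv, ← map_mul]
    exact congrArg _ (Subtype.ext rfl)
  choose θ₀ hθ₀ using hex
  let θ : H →* Perm (pts G b a) :=
    { toFun := θ₀
      map_one' := hu _ _ fun k => by rw [hθ₀, show cj 1 k = k from Subtype.ext (by simp [cj])]; simp
      map_mul' := fun x y => hu _ _ fun k => by
        rw [hθ₀, cjmul, ← hθ₀ x (cj y k), ← hθ₀ y k]; group }
  have hθ : ∀ x k, θ x * f k * (θ x)⁻¹ = f (cj x k) := hθ₀
  have hL : ∀ (x : H) (hx : (x : G) ∈ (Two b a : Subgroup G)), θ x = rho (G := G) b a ⟨x, hx⟩ := by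
    intro x hx
    refine hu _ _ fun k => ?_
    rw [hθ]
    simp only [f, MonoidHom.comp_apply, ← map_inv, ← map_mul]
    exact congrArg _ (Subtype.ext rfl)
  refine ⟨θ, ?_, hL, ?_, ?_⟩
  · rw [← MonoidHom.ker_eq_bot_iff, Subgroup.eq_bot_iff_forall]
    intro x hx
    rw [MonoidHom.mem_ker, MonoidHom.prod_apply, Prod.mk_eq_one] at hx
    have hxK : (x : G) ∈ (K a b : Subgroup G) := by
      have := MonoidHom.mem_ker.mpr hx.1
      rwa [piHom_ker] at this
    have h2 := hL x (K_le_Two (mem_orbit_self b) hxK)
    rw [hx.2, eq_comm, ← MonoidHom.mem_ker, rho_ker] at h2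
    have h3 : (x : G) ∈ (K a b ⊓ K b a : Subgroup G) := ⟨hxK, h2⟩
    rw [hMb, Subgroup.mem_bot] at h3
    exact Subtype.ext h3
  · have hr : (θ.comp ((K a b : Subgroup G).subgroupOf H).subtype).range = f.range := by
      refine le_antisymm ?_ ?_
      · rintro _ ⟨⟨x, hx⟩, rfl⟩
        exact ⟨⟨x, hx⟩, (hL x (K_le_Two (mem_orbit_self b) hx)).symm⟩
      · rintro _ ⟨⟨x, hx⟩, rfl⟩
        exact ⟨⟨⟨x, K_le_fst a b hx⟩, hx⟩, hL _ (K_le_Two (mem_orbit_self b) hx)⟩
    rw [Big, hr]; exact hf
  · have hCθ : C ≤ θ.ker := fun c hc => MonoidHom.mem_ker.mpr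
      (hu _ _ fun k => by rw [hθ, hCe c hc]; simp)
    have hr : ((piHom G a b).comp C.subtype).range ≤ ((piHom G a b).comp θ.ker.subtype).range := by
      rintro _ ⟨⟨c, hc⟩, rfl⟩
      exact ⟨⟨c, hCθ hc⟩, rfl⟩
    exact (Nat.le_of_dvd (Nat.pos_of_ne_zero Subgroup.index_ne_zero_of_finite)
      (Subgroup.index_dvd_of_le hr)).trans hCbig

theorem eq_top_or_eq_alt {S : Type*} [Fintype S] [DecidableEq S] {A : Subgroup (Perm S)}
    (hA : A.index ≤ 2) : A = ⊤ ∨ (A.index = 2 ∧ A = alternatingGroup S) := by
  have := Subgroup.index_ne_zero_of_finite (H := A)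
  rcases (show A.index = 1 ∨ A.index = 2 by omega) with h | h
  · exact .inl (Subgroup.index_eq_one.mp h)
  · exact .inr ⟨h, Equiv.Perm.eq_alternatingGroup_of_index_eq_two h⟩

/-- With only the alternating group induced, both kernels are alternating. -/
theorem alt_case (h : Cfg G a b d) (hK : (K a b : Subgroup G) ≠ ⊥)
    (h2 : (piHom G a b).range.index = 2) :
    2 * Nat.card (K a b : Subgroup G) = (d - 1).factorial ∧
      2 * (K b a : Subgroup G).relIndex (Two a b) = (d - 1).factorial := by
  classical
  have hT := h.hyp.prim.toIsPretransitive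
  have := Fintype.ofFinite (pts G a b)
  have h6 := h.six
  have hs := h.symm
  have hK' := (h.not_K_le hK).2
  have hnpos : 0 < (d - 1).factorial := Nat.factorial_pos _
  -- orders
  have hA := Subgroup.card_mul_index (piHom G a b).range
  rw [Nat.card_perm, h.card, h2, ← Subgroup.index_ker, piHom_ker] at hA
  change (K a b : Subgroup G).relIndex (stabilizer G a) * 2 = d.factorial at hA
  have hTd : (Two a b : Subgroup G).relIndex (stabilizer G a) = d := by
    rw [← h.card, Subgroup.inf_relIndex_left, Subgroup.relIndex, Nat.card_coe_set_eq,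
      ← index_stabilizer]
    rfl
  have hKL : 2 * (K a b : Subgroup G).relIndex (Two a b) = (d - 1).factorial := by
    have e := Subgroup.relIndex_mul_relIndex _ _ _ (K_le a b)
      (inf_le_left : Two a b ≤ stabilizer G a)
    rw [hTd] at e
    rw [← e, show d.factorial = d * (d - 1).factorial from
      (Nat.mul_factorial_pred (by omega)).symm] at hA
    refine Nat.eq_of_mul_eq_mul_left (show 0 < d by omega) ?_
    rw [← hA]; ring
  have hKK' : 2 * Nat.card (K b a : Subgroup G) = (d - 1).factorial := by
    have hle : (K b a : Subgroup G) ≤ Two a b := (K_le b a).trans (le_of_eq (inf_comm _ _))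
    have hi : (rho (G := G) a b).range.index = 2 := by
      have e := Subgroup.card_mul_index (rho (G := G) a b).range
      rw [Nat.card_perm, card_pts h.card, ← Subgroup.index_ker, rho_ker, ← hKL] at e
      change (K a b : Subgroup G).relIndex (Two a b) * _ = _ at e
      have hpos : 0 < (K a b : Subgroup G).relIndex (Two a b) := by
        by_contra hc; simp only [not_lt, Nat.le_zero] at hc; omega
      rw [mul_comm 2] at e
      exact Nat.eq_of_mul_eq_mul_left hpos e
    set f := (rho (G := G) a b).comp (Subgroup.inclusion hle)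
    have hf : Function.Injective f := by
      rw [← MonoidHom.ker_eq_bot_iff, rho_comp_ker, Subgroup.subgroupOf_eq_bot, disjoint_iff,
        h.inf_eq_bot hK]
    have hbig : Big f := by
      have hn := normal_K_in b a (inf_le_right : Two a b ≤ stabilizer G b)
      refine big_incl h.five_pts h.big_rho hle fun hle' => ?_
      rw [rho_ker] at hle'
      exact (hs.not_K_le hK').1 fun x hx => hle' (x := ⟨x, hle hx⟩) hx
    have hr : f.range = (rho (G := G) a b).range := by
      rcases eq_top_or_eq_alt hbig with h1 | ⟨-, h1⟩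
      · exfalso
        have hle2 : f.range ≤ (rho (G := G) a b).range := by
          rintro _ ⟨x, rfl⟩; exact ⟨_, rfl⟩
        rw [h1, top_le_iff] at hle2
        rw [hle2, Subgroup.index_top] at hi
        omega
      · rw [h1, Equiv.Perm.eq_alternatingGroup_of_index_eq_two hi]
    have e := Subgroup.card_mul_index f.range
    rw [hr, hi, ← hr, Nat.card_perm, card_pts h.card,
      ← Nat.card_congr (MonoidHom.ofInjective hf).toEquiv] at e
    rw [← e, mul_comm]
  have e1 := Subgroup.relIndex_mul_relIndex ⊥ _ _ bot_le (K_le a b : (K a b : Subgroup G) ≤ _)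
  have e2 := Subgroup.relIndex_mul_relIndex ⊥ _ _ bot_le
    ((K_le b a).trans (le_of_eq (inf_comm _ _)) : (K b a : Subgroup G) ≤ Two a b)
  rw [Subgroup.relIndex_bot_left, Subgroup.relIndex_bot_left] at e1 e2
  have hcardK : 2 * Nat.card (K a b : Subgroup G) = (d - 1).factorial := by
    have hb := (h.big_on hK (mem_orbit_self b))
    set f := (rho (G := G) b a).comp (Subgroup.inclusion (K_le_Two (mem_orbit_self b) :
      (K a b : Subgroup G) ≤ Two b a))
    have hf : Function.Injective f := by
      rw [← MonoidHom.ker_eq_bot_iff, rho_comp_ker, Subgroup.subgroupOf_eq_bot, disjoint_iff,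
        inf_comm, h.inf_eq_bot hK]
    have e := Subgroup.card_mul_index f.range
    rw [Nat.card_perm, card_pts hs.card, ← Nat.card_congr (MonoidHom.ofInjective hf).toEquiv] at e
    have := Fintype.ofFinite (pts G b a)
    rcases eq_top_or_eq_alt hb with h1 | ⟨h1, -⟩
    · exfalso
      rw [h1, Subgroup.index_top, mul_one] at e
      -- the stabiliser of `b` would map onto the symmetric group
      have hG := Subgroup.relIndex_mul_relIndex ⊥ _ _ bot_le
        (K_le_fst a b : (K a b : Subgroup G) ≤ _)
      have hG' := Subgroup.relIndex_mul_relIndex ⊥ _ _ bot_le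
        (K_le_fst b a : (K b a : Subgroup G) ≤ _)
      rw [Subgroup.relIndex_bot_left, Subgroup.relIndex_bot_left] at hG hG'
      rw [card_stab_eq b a, ← hG, e] at hG'
      have hfull : (K b a : Subgroup G).relIndex (stabilizer G b) = d.factorial := by
        refine Nat.eq_of_mul_eq_mul_left hnpos ?_
        calc (d - 1).factorial * _ = 2 * (Nat.card (K b a : Subgroup G) *
              (K b a : Subgroup G).relIndex (stabilizer G b)) := by rw [← hKK', mul_assoc]
          _ = _ := by rw [hG', ← hA]; ring
      obtain ⟨g, hg⟩ := exists_smul_eq G a b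
      let e' := stabilizerEquivStabilizer (G := G) (a := a) (b := b) (g := g) hg.symm
      set ψ := (piHom G b a).comp e'.toMonoidHom
      have hψi : ψ.ker.index = d.factorial := by
        rw [← MonoidHom.comap_ker, Subgroup.index_comap_of_surjective _ e'.surjective, piHom_ker]
        exact hfull
      have hψ : Big ψ := by
        have := Subgroup.card_mul_index ψ.range
        rw [← Subgroup.index_ker, hψi, Nat.card_perm, hs.card] at this
        have h1 : ψ.range.index = 1 := by
          have := Nat.eq_of_mul_eq_mul_left (Nat.factorial_pos d) (this.trans (mul_one _).symm)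
          exact this
        rw [Big, h1]; omega
      have hn := normal_K_in a b (le_refl (stabilizer G a))
      have hd5 : 5 ≤ Nat.card (orbit (stabilizer G b) a) := by rw [hs.card]; omega
      rcases hψ.cases hd5 ((K a b : Subgroup G).subgroupOf (stabilizer G a)) with h3 | h3
      · have := Subgroup.index_dvd_of_le h3
        rw [hψi] at this
        change d.factorial ∣ (K a b : Subgroup G).relIndex (stabilizer G a) at this
        have hp : 0 < (K a b : Subgroup G).relIndex (stabilizer G a) := by
          have := Nat.factorial_pos d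
          by_contra hc; simp only [not_lt, Nat.le_zero] at hc; omega
        have := Nat.le_of_dvd hp this
        omega
      · have h4 := h3.index_ker
        rw [hs.card, Subgroup.index_ker] at h4
        have h5 : Nat.card (ψ.comp ((K a b : Subgroup G).subgroupOf (stabilizer G a)).subtype).range
            ≤ (d - 1).factorial := by
          rw [← e, ← Nat.card_congr (Subgroup.subgroupOfEquivOfLe (K_le_fst a b :
            (K a b : Subgroup G) ≤ _)).toEquiv]
          exact Nat.card_le_card_of_surjective _
            (ψ.comp ((K a b : Subgroup G).subgroupOf (stabilizer G a)).subtype).rangeRestrict_surjective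
        have h7 := h4.trans (Nat.mul_le_mul_left 2 h5)
        rw [← Nat.mul_factorial_pred (show d ≠ 0 by omega)] at h7
        have := Nat.le_of_mul_le_mul_right h7 hnpos
        omega
    · rw [h1] at e
      rw [← e, mul_comm]
  refine ⟨hcardK, ?_⟩
  rw [← e1] at e2
  refine Nat.eq_of_mul_eq_mul_left (show 0 < Nat.card (K b a : Subgroup G) from Nat.card_pos) ?_
  calc Nat.card (K b a : Subgroup G) * (2 * (K b a : Subgroup G).relIndex (Two a b))
      = 2 * (Nat.card (K b a : Subgroup G) * (K b a : Subgroup G).relIndex (Two a b)) := by ring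
    _ = (2 * Nat.card (K a b : Subgroup G)) * (K a b : Subgroup G).relIndex (Two a b) := by
        rw [e2]; ring
    _ = (2 * Nat.card (K b a : Subgroup G)) * (K a b : Subgroup G).relIndex (Two a b) := by
        rw [hcardK, hKK']
    _ = _ := by rw [← hKL]; ring

end Cfsg.Agent.H32.Suborbit
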