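import Cfsg.Agent.H32.Suborbit.Kernel

/-!
The kernels on a suborbit and on its pair meet trivially when at least the alternating group is
induced.
-/

set_option autoImplicit false
set_option linter.unusedSectionVars false

namespace Cfsg.Agent.H32.Suborbit

open MulAction Equiv
open Cfsg.Agent.H70.Wielandt

variable {G Ω : Type*} [Group G] [MulAction G Ω] [Finite G]

theorem big_incl {T : Type*} [Finite T] {A B : Subgroup G} (hT : 5 ≤ Nat.card T)
    {φ : A →* Perm T} (hφ : Big φ) (hBA : B ≤ A) [(B.subgroupOf A).Normal]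
    (h : ¬ B.subgroupOf A ≤ φ.ker) : Big (φ.comp (Subgroup.inclusion hBA)) := by
  have hr : (φ.comp (Subgroup.inclusion hBA)).range =
      (φ.comp (B.subgroupOf A).subtype).range := by
    refine le_antisymm ?_ ?_
    · rintro _ ⟨x, rfl⟩
      exact ⟨⟨⟨x, hBA x.2⟩, x.2⟩, rfl⟩
    · rintro _ ⟨x, rfl⟩
      exact ⟨⟨((x : A) : G), x.2⟩, rfl⟩
  rw [Big, hr]
  exact (hφ.cases hT _).resolve_left h

variable [Finite Ω] [FaithfulSMul G Ω] {a b : Ω} {d : ℕ}

theorem K_le_Two {c : Ω} (hc : c ∈ orbit (stabilizer G a) b) :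
    (K a b : Subgroup G) ≤ Two c a :=
  fun _ hm => ⟨(mem_K.mp hm).2 c hc, (mem_K.mp hm).1⟩

/-- All the double kernels at `a` coincide. -/
def AllEq (G : Type*) {Ω : Type*} [Group G] [MulAction G Ω] (a b : Ω) : Prop :=
  ∀ c ∈ orbit (stabilizer G a) b, (K a b ⊓ K b a : Subgroup G) ≤ K c a

theorem AllEq.eq_P (h : AllEq G a b) : (K a b ⊓ K b a : Subgroup G) = P a b :=
  le_antisymm (fun _ hx => mem_P.mpr ⟨hx.1, fun c hc => h c hc hx⟩)
    (le_inf (P_le_K a b) (P_le_K' a b))

theorem conj_double {h : G} (hh : h ∈ stabilizer G a) {c x : _}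
    (hx : x ∈ (K a b ⊓ K c a : Subgroup G)) :
    h * x * h⁻¹ ∈ (K a b ⊓ K (h • c) a : Subgroup G) := by
  have h1 := conj_mem_K hx.2 h
  rw [mem_stabilizer_iff.mp hh] at h1
  exact ⟨(Subgroup.mem_normalizer_iff.mp (le_normalizer_K a b hh) x).mp hx.1, h1⟩

theorem Cfg.two_trans (h : Cfg G a b d) {c c' e e' : Ω}
    (hc : c ∈ orbit (stabilizer G a) b) (hc' : c' ∈ orbit (stabilizer G a) b)
    (he : e ∈ orbit (stabilizer G a) b) (he' : e' ∈ orbit (stabilizer G a) b)
    (hne : c ≠ c') (hne' : e ≠ e') :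
    ∃ k ∈ stabilizer G a, k • c = e ∧ k • c' = e' := by
  classical
  have := Fintype.ofFinite (orbit (stabilizer G a) b)
  have h6 := h.six
  have hT := alternatingGroup.isMultiplyPretransitive (α := orbit (stabilizer G a) b)
  have : IsMultiplyPretransitive (alternatingGroup (orbit (stabilizer G a) b))
      (orbit (stabilizer G a) b) 2 :=
    MulAction.isMultiplyPretransitive_of_le (n := Nat.card (orbit (stabilizer G a) b) - 2)
      (by rw [h.card]; omega) (Nat.sub_le _ _)
  have htwo : ∀ x y z w : orbit (stabilizer G a) b, x ≠ y → z ≠ w →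
      ∃ g : alternatingGroup (orbit (stabilizer G a) b), g • x = z ∧ g • y = w :=
    fun x y z w h1 h2 => is_two_pretransitive_iff.mp this h1 h2
  obtain ⟨⟨g, hg⟩, h1, h2⟩ := htwo (⟨c, hc⟩ : orbit (stabilizer G a) b) ⟨c', hc'⟩ ⟨e, he⟩ ⟨e', he'⟩
    (by simpa using hne) (by simpa using hne')
  obtain ⟨k, rfl⟩ := alt_le_of_index h.big_pi hg
  exact ⟨k, k.2, congrArg Subtype.val h1, congrArg Subtype.val h2⟩

theorem Cfg.not_double_le (h : Cfg G a b d) (hA : ¬ AllEq G a b) {c c' : Ω}
    (hc : c ∈ orbit (stabilizer G a) b) (hc' : c' ∈ orbit (stabilizer G a) b) (hne : c ≠ c') :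
    ¬ (K a b ⊓ K c a : Subgroup G) ≤ K c' a := by
  intro hle
  have hcard : ∀ x ∈ orbit (stabilizer G a) b, ∀ y ∈ orbit (stabilizer G a) b,
      Nat.card (K a b ⊓ K x a : Subgroup G) ≤ Nat.card (K a b ⊓ K y a : Subgroup G) := by
    intro x hx y hy
    obtain ⟨k, hk⟩ : ∃ k : stabilizer G a, k • x = y :=
      mem_orbit_iff.mp (by rw [orbit_eq_iff.mpr hx]; exact hy)
    exact Nat.card_le_card_of_injective
      (fun m => ⟨(k : G) * m * (k : G)⁻¹, by have := conj_double k.2 m.2; rwa [show (k : G) • x = y from hk] at this⟩)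
      (fun m n hmn => Subtype.ext (by simpa using congrArg Subtype.val hmn))
  have heq : (K a b ⊓ K c a : Subgroup G) = K a b ⊓ K c' a :=
    Subgroup.eq_of_le_of_card_ge (le_inf inf_le_left hle) (hcard c' hc' c hc)
  refine hA fun e he => ?_
  rcases eq_or_ne b e with rfl | hbe
  · exact inf_le_right
  obtain ⟨k, hk, hkc, hkc'⟩ := h.two_trans hc hc' (mem_orbit_self b) he hne hbe
  intro x hx
  have h1 : k⁻¹ * x * k ∈ (K a b ⊓ K c a : Subgroup G) := by
    have := conj_double (inv_mem hk) hx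
    rwa [inv_inv, show k⁻¹ • b = c by rw [← hkc, inv_smul_smul]] at this
  rw [heq] at h1
  have h2 := conj_double hk h1
  rw [hkc'] at h2
  simpa [mul_assoc] using h2.2

theorem Cfg.five_pts' (h : Cfg G a b d) {c : Ω} (hc : c ∈ orbit (stabilizer G a) b) :
    5 ≤ Nat.card (pts G c a) := by
  rw [card_pts_swap h hc]; have := h.six; omega

theorem double_le_Two {c : Ω} (hc : c ∈ orbit (stabilizer G a) b) :
    (K a b ⊓ K b a : Subgroup G) ≤ Two c a := inf_le_left.trans (K_le_Two hc)

/-- With distinct double kernels each other member gives a big representation of the first. -/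
theorem Cfg.big_double (h : Cfg G a b d) (hK : (K a b : Subgroup G) ≠ ⊥) (hA : ¬ AllEq G a b)
    {c : Ω} (hc : c ∈ orbit (stabilizer G a) b) (hne : c ≠ b) :
    Big ((rho (G := G) c a).comp (Subgroup.inclusion (double_le_Two (b := b) hc))) := by
  have hn : ((K a b ⊓ K b a : Subgroup G).subgroupOf (K a b)).Normal := by
    rw [Subgroup.inf_subgroupOf_left]
    exact normal_K_in b a (K_le_snd a b)
  refine big_incl (h.five_pts' hc) (h.big_on hK hc)
    (inf_le_left : (K a b ⊓ K b a : Subgroup G) ≤ K a b) ?_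
  rw [rho_comp_ker]
  exact fun hle => h.not_double_le hA (mem_orbit_self b) hc hne.symm
    fun x hx => hle (x := ⟨x, hx.1⟩) hx

/-- The two kernels cannot both have distinct double kernels. -/
theorem Cfg.distinct_both {p : ℕ} (hp : p.Prime) (h : Cfg G a b d)
    (hK : (K a b : Subgroup G) ≠ ⊥) (hA : ¬ AllEq G a b) (hA' : ¬ AllEq G b a)
    (hP : IsPGroup p (P b a : Subgroup G)) : False := by
  have hs := h.symm
  have hK' := (h.not_K_le hK).2
  -- a point of the suborbit moved by the second kernel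
  obtain ⟨x, hx, k, hk, hkx⟩ : ∃ x ∈ orbit (stabilizer G a) b, ∃ k ∈ (K b a : Subgroup G),
      k • x ≠ x := by
    by_contra hno
    push Not at hno
    refine (hs.not_K_le hK').1 fun k hk => mem_K.mpr ⟨(mem_K.mp hk).2 a (mem_orbit_self a), ?_⟩
    exact fun x hx => hno x hx k hk
  have hka : k • a = a := (mem_K.mp hk).2 a (mem_orbit_self a)
  have hkb : k • b = b := (mem_K.mp hk).1
  have hxb : x ≠ b := fun e => hkx (e ▸ hkb)
  set M : Subgroup G := K a b ⊓ K b a
  have hbig := h.big_double hK hA hx hxb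
  have hPn := normal_P_in b a ((inf_le_right : M ≤ _).trans (K_le_fst b a))
  have hPk : (P b a : Subgroup G).subgroupOf M ≤
      ((rho (G := G) x a).comp (Subgroup.inclusion (double_le_Two (b := b) hx))).ker := by
    by_contra hle
    exact not_isPGroup_of_big (h.five_pts' hx) hbig hle hp hP
  obtain ⟨e, he, hle⟩ := exists_K_le (inf_le_right : M ≤ K b a) (h.five_pts' hx) hbig hPk
  have hea : e ≠ a := by
    rintro rfl
    exact not_le_ker_of_big (h.five_pts' hx) hbig fun m _ => hle (x := m) m.2.1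
  have hMe : M ≤ Two e b := fun m hm => K_le_Two (G := G) (a := b) (b := a) he hm.2
  have hbig' : Big ((rho (G := G) e b).comp (Subgroup.inclusion hMe)) := by
    have h1 := hs.big_double hK' hA' he hea
    have hr : ((rho (G := G) e b).comp (Subgroup.inclusion hMe)).range = ((rho (G := G) e b).comp
        (Subgroup.inclusion (double_le_Two (b := a) he))).range := by
      refine le_antisymm ?_ ?_ <;> rintro _ ⟨m, rfl⟩ <;> exact ⟨⟨m, m.2.2, m.2.1⟩, rfl⟩
    rw [Big, hr]; exact h1
  rw [← rho_comp_ker e b hMe] at hle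
  have hge := hbig'.ker_le (h.five_pts' hx) (hs.five_pts' he) hbig hle
  rw [rho_comp_ker, rho_comp_ker] at hle hge
  -- conjugating by `k` preserves the double kernel
  have hkey : (K a b ⊓ K x a : Subgroup G) ⊓ (K a b ⊓ K b a) ≤ K (k • x) a := by
    rintro m ⟨⟨-, hm1⟩, hm⟩
    have hme : m ∈ (K e b : Subgroup G) := hge (x := ⟨m, hm⟩) hm1
    have hk' : k⁻¹ ∈ (K b a : Subgroup G) := inv_mem hk
    have hm' : k⁻¹ * m * k ∈ M := by
      have hkGa : k ∈ stabilizer G a := hka
      have hkGb : k ∈ stabilizer G b := hkb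
      constructor
      · simpa using (Subgroup.mem_normalizer_iff.mp (le_normalizer_K a b (inv_mem hkGa)) m).mp hm.1
      · simpa using (Subgroup.mem_normalizer_iff.mp (le_normalizer_K b a (inv_mem hkGb)) m).mp hm.2
    have he' : k⁻¹ * m * k ∈ (K e b : Subgroup G) := by
      have := conj_mem_K hme k⁻¹
      rw [inv_inv, (mem_K.mp hk').2 e he, (mem_K.mp hk').1] at this
      exact this
    have := conj_mem_K (hle (x := ⟨_, hm'⟩) he') k
    rw [hka] at this
    simpa [mul_assoc] using this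
  have hkxΔ : k • x ∈ orbit (stabilizer G a) b := by
    rw [← orbit_eq_iff.mpr hx]
    exact ⟨⟨k, hka⟩, rfl⟩
  have n1 := normal_K_in b a (K_le_snd a b : (K a b : Subgroup G) ≤ _)
  have n2 := normal_K_in x a (fun m hm => (mem_K.mp hm).2 x hx : (K a b : Subgroup G) ≤ stabilizer G x)
  rcases (h.big_on hK hkxΔ).two (h.five_pts' hkxΔ)
    ((K b a : Subgroup G).subgroupOf (K a b)) ((K x a : Subgroup G).subgroupOf (K a b))
    (fun m hm => by
      rw [rho_comp_ker]
      exact hkey ⟨⟨m.2, hm.2⟩, m.2, hm.1⟩) with h1 | h1 <;> rw [rho_comp_ker] at h1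
  · exact h.not_double_le hA (mem_orbit_self b) hkxΔ (fun e => hxb (smul_left_cancel k (e.symm.trans hkb.symm)))
      fun m hm => h1 (x := ⟨m, hm.1⟩) hm.2
  · exact h.not_double_le hA hx hkxΔ (Ne.symm hkx) fun m hm => h1 (x := ⟨m, hm.1⟩) hm.2

/-- Distinct double kernels on one side and equal ones on the other is impossible. -/
theorem Cfg.mixed (h : Cfg G a b d) (hK : (K a b : Subgroup G) ≠ ⊥) (hA : ¬ AllEq G a b)
    (hA' : AllEq G b a) : False := by
  classical
  have hT := h.hyp.prim.toIsPretransitive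
  have h6 := h.six
  set M : Subgroup G := K a b ⊓ K b a with hMdef
  have hMP : M = P b a := by rw [← hA'.eq_P, inf_comm]
  have hΔ : 1 < Nat.card (orbit (stabilizer G a) b) := by rw [h.card]; omega
  have hnt : Nontrivial (orbit (stabilizer G a) b) := Finite.one_lt_card_iff_nontrivial.mp hΔ
  obtain ⟨⟨c₀, hc₀⟩, hc₀b⟩ := exists_ne (⟨b, mem_orbit_self b⟩ : orbit (stabilizer G a) b)
  have hc₀b' : c₀ ≠ b := fun e => hc₀b (Subtype.ext e)
  have hbig₀ := h.big_double hK hA hc₀ hc₀b'
  have hMP' : ∀ p : ℕ, p.Prime → ¬ IsPGroup p M := fun p hp hM =>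
    hbig₀.not_isPGroup (h.five_pts' hc₀) hp hM
  obtain ⟨p, hp, hPp⟩ : ∃ p : ℕ, p.Prime ∧ IsPGroup p (P a b : Subgroup G) := by
    by_contra hx
    have h0 := h.hyp.P_eq_bot fun p hp hp' => hx ⟨p, hp, hp'⟩
    exact hMP' 2 Nat.prime_two (by rw [hMP, h0]; exact IsPGroup.of_bot)
  obtain ⟨g, hg⟩ := exists_smul_eq G b a
  have hMH : ∀ m ∈ M, g * m * g⁻¹ ∈ stabilizer G a := fun m hm => by
    have := K_le_fst _ _ (conj_mem_K hm.2 g)
    rwa [hg] at this
  set M' : Subgroup G := M.map (MulAut.conj g).toMonoidHom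
  have hM'H : M' ≤ stabilizer G a := by rintro _ ⟨m, hm, rfl⟩; exact hMH m hm
  have hM'n : stabilizer G a ≤ Subgroup.normalizer (M' : Set G) := by
    refine le_normalizer_of_conj fun t ht m hm => ?_
    obtain ⟨m, hm', rfl⟩ := hm
    have ht' : g⁻¹ * t * g ∈ stabilizer G b := by
      have : g⁻¹ • a = b := by rw [← hg, inv_smul_smul]
      rw [mem_stabilizer_iff, mul_smul, mul_smul, hg, mem_stabilizer_iff.mp ht, this]
    refine ⟨(g⁻¹ * t * g) * m * (g⁻¹ * t * g)⁻¹, ?_, by simp [mul_assoc]⟩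
    rw [hMP] at hm' ⊢
    exact (Subgroup.mem_normalizer_iff.mp (le_normalizer_P b a ht') m).mp hm'
  let c := conjHom g hMH
  -- the conjugate fixes the suborbit
  have hM'K : M' ≤ K a b := by
    by_contra hle
    have hn := Subgroup.normal_subgroupOf_of_le_normalizer hM'n
    have hd5 : 5 ≤ Nat.card (orbit (stabilizer G a) b) := by rw [h.card]; omega
    rcases h.big_pi.cases hd5 (M'.subgroupOf (stabilizer G a)) with h1 | h1
    · rw [piHom_ker] at h1
      exact hle fun m hm => h1 (x := ⟨m, hM'H hm⟩) hm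
    have hφ : Big ((piHom G a b).comp c) := by
      have hr : ((piHom G a b).comp c).range =
          ((piHom G a b).comp (M'.subgroupOf (stabilizer G a)).subtype).range := by
        refine le_antisymm ?_ ?_
        · rintro _ ⟨m, rfl⟩
          exact ⟨⟨c m, ⟨m, m.2, rfl⟩⟩, rfl⟩
        · rintro _ ⟨⟨⟨y, hy⟩, m, hm, hmy⟩, rfl⟩
          exact ⟨⟨m, hm⟩, congrArg (piHom G a b) (Subtype.ext hmy)⟩
      rw [Big, hr]; exact h1
    have hn' := normal_P_in a b ((inf_le_left : M ≤ _).trans (K_le_fst a b))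
    have hPk : (P a b : Subgroup G).subgroupOf M ≤ ((piHom G a b).comp c).ker := by
      by_contra hx
      exact not_isPGroup_of_big hd5 hφ hx hp hPp
    obtain ⟨e, he, hker⟩ := exists_K_le (inf_le_left : M ≤ K a b) hd5 hφ hPk
    rw [← rho_comp_ker e a (double_le_Two (b := b) he)] at hker
    exact hφ.not_ker_le _ (by rw [card_pts_swap h he, h.card]; omega) (by omega) hker
  -- each member gives a representation of the first double kernel
  have hnK : (M'.subgroupOf (K a b)).Normal :=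
    Subgroup.normal_subgroupOf_of_le_normalizer ((K_le_fst a b).trans hM'n)
  have hno : ∀ x ∈ orbit (stabilizer G a) b, ¬ M' ≤ K x a := by
    intro x hx hle
    apply hMP' p hp
    have hall : M' ≤ P a b := fun m hm => mem_P.mpr ⟨hM'K hm, fun y hy => by
      obtain ⟨k, hk⟩ : ∃ k : stabilizer G a, k • x = y :=
        mem_orbit_iff.mp (by rw [orbit_eq_iff.mpr hx]; exact hy)
      have h1 := (Subgroup.mem_normalizer_iff.mp (hM'n (inv_mem k.2)) m).mp hm
      have h2 := conj_mem_K (hle h1) (k : G)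
      rw [mem_stabilizer_iff.mp k.2, show (k : G) • x = y from hk] at h2
      simpa [mul_assoc] using h2⟩
    exact (hPp.to_le hall).of_injective (ϕ := (MulAut.conj g).toMonoidHom.subgroupMap M)
      ((Subgroup.equivMapOfInjective M _ (MulAut.conj g).injective).injective)
  have hcK : ∀ m : M, g * (m : G) * g⁻¹ ∈ (K a b : Subgroup G) := fun m => hM'K ⟨m, m.2, rfl⟩
  let c' := conjHom g (fun m hm => hcK ⟨m, hm⟩ : ∀ m ∈ M, g * m * g⁻¹ ∈ (K a b : Subgroup G))
  have hj : ∀ x : orbit (stabilizer G a) b, ∃ j : orbit (stabilizer G a) b, (j : Ω) ≠ b ∧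
      ∀ m : M, (m : G) ∈ (K (j : Ω) a : Subgroup G) ↔
        g * (m : G) * g⁻¹ ∈ (K (x : Ω) a : Subgroup G) := by
    intro x
    set f := (rho (G := G) (x : Ω) a).comp (Subgroup.inclusion (K_le_Two (b := b) x.2))
    have hf : Big (f.comp c') := by
      have hr : (f.comp c').range = (f.comp (M'.subgroupOf (K a b)).subtype).range := by
        refine le_antisymm ?_ ?_
        · rintro _ ⟨m, rfl⟩
          exact ⟨⟨c' m, ⟨m, m.2, rfl⟩⟩, rfl⟩
        · rintro _ ⟨⟨⟨y, hy⟩, m, hm, hmy⟩, rfl⟩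
          exact ⟨⟨m, hm⟩, congrArg f (Subtype.ext hmy)⟩
      rw [Big, hr]
      refine ((h.big_on hK x.2).cases (h.five_pts' x.2) _).resolve_left fun hle => ?_
      rw [rho_comp_ker] at hle
      exact hno x x.2 fun m hm => hle (x := ⟨m, hM'K hm⟩) hm
    have hn' := normal_P_in a b ((inf_le_left : M ≤ _).trans (K_le_fst a b))
    have hPk : (P a b : Subgroup G).subgroupOf M ≤ (f.comp c').ker := by
      by_contra hx
      exact not_isPGroup_of_big (h.five_pts' x.2) hf hx hp hPp
    obtain ⟨e, he, hker⟩ := exists_K_le (inf_le_left : M ≤ K a b) (h.five_pts' x.2) hf hPk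
    have heb : e ≠ b := by
      rintro rfl
      exact not_le_ker_of_big (h.five_pts' x.2) hf fun m _ => hker (x := m) m.2.2
    rw [← rho_comp_ker e a (double_le_Two (b := b) he)] at hker
    have hge := (h.big_double hK hA he heb).ker_le (h.five_pts' x.2) (h.five_pts' he) hf hker
    rw [rho_comp_ker] at hker hge
    have hfk : ∀ m : M, m ∈ (f.comp c').ker ↔ g * (m : G) * g⁻¹ ∈ (K (x : Ω) a : Subgroup G) := by
      intro m
      rw [MonoidHom.mem_ker, MonoidHom.comp_apply, ← MonoidHom.mem_ker, rho_comp_ker]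
      rfl
    exact ⟨⟨e, he⟩, heb, fun m => ⟨fun hm => (hfk m).mp (hker hm),
      fun hm => hge ((hfk m).mpr hm)⟩⟩
  choose j hjb hjk using hj
  obtain ⟨x, y, hxy, hne⟩ : ∃ x y, j x = j y ∧ x ≠ y := by
    by_contra hinj
    push Not at hinj
    obtain ⟨z, hz⟩ := (Finite.injective_iff_surjective.mp hinj) ⟨b, mem_orbit_self b⟩
    exact hjb z (congrArg Subtype.val hz)
  have n1 := normal_K_in (x : Ω) a
    (fun m hm => (mem_K.mp hm).2 x x.2 : (K a b : Subgroup G) ≤ stabilizer G (x : Ω))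
  rcases (h.big_on hK y.2).two (h.five_pts' y.2) (M'.subgroupOf (K a b))
    ((K (x : Ω) a : Subgroup G).subgroupOf (K a b)) (fun m hm => by
      rw [rho_comp_ker]
      obtain ⟨⟨m0, hm0, hmeq⟩, hmx⟩ := hm
      have hmeq' : g * m0 * g⁻¹ = (m : G) := hmeq
      show (m : G) ∈ (K (y : Ω) a : Subgroup G)
      rw [← hmeq']
      refine (hjk y ⟨m0, hm0⟩).mp (hxy ▸ (hjk x ⟨m0, hm0⟩).mpr ?_)
      show g * m0 * g⁻¹ ∈ _
      rw [hmeq']
      exact hmx) with h1 | h1 <;> rw [rho_comp_ker] at h1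
  · exact hno y y.2 fun m hm => h1 (x := ⟨m, hM'K hm⟩) hm
  · exact h.not_double_le hA x.2 y.2 (fun e => hne (Subtype.ext e))
      fun m hm => h1 (x := ⟨m, hm.1⟩) hm.2

/-- The two kernels meet trivially. -/
theorem Cfg.inf_eq_bot (h : Cfg G a b d) (hK : (K a b : Subgroup G) ≠ ⊥) :
    (K a b ⊓ K b a : Subgroup G) = ⊥ := by
  have hs := h.symm
  have hK' := (h.not_K_le hK).2
  by_cases hA : AllEq G a b <;> by_cases hA' : AllEq G b a
  · refine h.hyp.eq_bot_of_both (inf_le_left.trans (K_le_fst a b)) ?_ ?_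
    · rw [hA.eq_P]; exact le_normalizer_P a b
    · rw [inf_comm, hA'.eq_P]; exact le_normalizer_P b a
  · exact (hs.mixed hK' hA' hA).elim
  · exact (h.mixed hK hA hA').elim
  · exfalso
    by_cases hx : ∃ p : ℕ, p.Prime ∧ IsPGroup p (P a b : Subgroup G)
    · obtain ⟨p, hp, hPp⟩ := hx
      exact hs.distinct_both hp hK' hA' hA hPp
    · have h0 := h.hyp.P_eq_bot fun p hp hp' => hx ⟨p, hp, hp'⟩
      exact h.distinct_both Nat.prime_two hK hA hA' (h0 ▸ IsPGroup.of_bot)

end Cfsg.Agent.H32.Suborbit
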